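import Cfsg.Agent.Omega.KL.Def

/-!
# The END of `|Z| ≥ 8` (#22648 (3), #22713 (6), (7), split #22922): a minimal parabolic which moves one vector of `Z`
and fixes another one (helper699)

`T` fixes the subgroup `Z` of `M`, `N_H(T)` normalises `Z`, every `T`-minimal `P` has `|Z : C_Z(P)| ≤ c < |Z|`, `M` is
faithful and irreducible, `T ≠ 1`.

* **`exists_mv`** : some `T`-minimal `P` moves some `x ∈ Z#` and fixes some `y ∈ Z#`;
* `exists_fixed` : every `T`-minimal `P` fixes some `y ∈ Z#`.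
-/

set_option autoImplicit false

namespace Cfsg.Agent.Omega.KL.ZR

open Subgroup Cfsg Cfsg.Agent.ZN Cfsg.Agent.ClassTwoFusion.Quad Cfsg.Agent.Omega.ML.MinFrame
open Cfsg.Agent.MinSimple.MinParabolic (IsMinPar le_of_forall)

universe u v

variable {H : Type u} [Group H] {M : Type v} [Group M] [MulDistribMulAction H M] {T : Subgroup H} {Z : Subgroup M}
  {c : ℕ}

/-- a subgroup of index `≤ c < |Z|` is non-trivial -/
theorem exists_fixed_of [Finite M] {X : Subgroup H} (par : (Z ⊓ cv M (X : Set H)).relIndex Z ≤ c)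
    (Zc : c < Nat.card Z) : ∃ y ∈ Z, y ≠ 1 ∧ ∀ p ∈ X, p • y = y := by
  by_contra hc
  push Not at hc
  have h1 : Z ⊓ cv M (X : Set H) = ⊥ := by
    rw [eq_bot_iff]
    rintro y ⟨hy1, hy2⟩
    rw [mem_bot]
    by_contra hy3
    obtain ⟨p, hp, h2⟩ := hc y hy1 hy3
    exact h2 (hy2 p hp)
  rw [h1, relIndex_bot_left] at par
  omega

/-- every `T`-minimal `P` fixes some `y ∈ Z#` -/
theorem exists_fixed [Finite M] (par : ∀ P : Subgroup H, IsMinPar T P → (Z ⊓ cv M (P : Set H)).relIndex Z ≤ c)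
    (Zc : c < Nat.card Z) {P : Subgroup H} (hP : IsMinPar T P) : ∃ y ∈ Z, y ≠ 1 ∧ ∀ p ∈ P, p • y = y :=
  exists_fixed_of (par P hP) Zc

/-- the stabiliser of the set `Z` -/
def stZ (H : Type u) [Group H] {M : Type v} [Group M] [MulDistribMulAction H M] (Z : Subgroup M) : Subgroup H where
  carrier := {g | (∀ z ∈ Z, g • z ∈ Z) ∧ ∀ z ∈ Z, g⁻¹ • z ∈ Z}
  one_mem' := ⟨fun z hz => by rwa [one_smul], fun z hz => by rwa [inv_one, one_smul]⟩
  mul_mem' := fun {a b} ha hb => ⟨fun z hz => by rw [mul_smul]; exact ha.1 _ (hb.1 z hz),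
    fun z hz => by rw [mul_inv_rev, mul_smul]; exact hb.2 _ (ha.2 z hz)⟩
  inv_mem' := fun {a} ha => ⟨ha.2, fun z hz => by rw [inv_inv]; exact ha.1 z hz⟩

/-- **some `T`-minimal `P` moves some vector of `Z`** -/
theorem exists_mover [Finite H] (faith : ∀ h : H, (∀ m : M, h • m = m) → h = 1)
    (irr : ∀ W : Subgroup M, (∀ h : H, ∀ w ∈ W, h • w ∈ W) → W = ⊥ ∨ W = ⊤)
    (TZ : ∀ t ∈ T, ∀ z ∈ Z, t • z = z) (nZ : ∀ g ∈ normalizer (T : Set H), ∀ z ∈ Z, g • z ∈ Z) (hZ : Z ≠ ⊥)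
    (hT : T ≠ ⊥) : ∃ P : Subgroup H, IsMinPar T P ∧ ∃ x ∈ Z, ∃ p ∈ P, p • x ≠ x := by
  by_contra hc
  push Not at hc
  have h1 : (⊤ : Subgroup H) ≤ stZ H Z := by
    refine le_of_forall (S := T) le_top ?_ ?_
    · rintro g ⟨-, hg⟩
      exact ⟨nZ g hg, nZ g⁻¹ (inv_mem hg)⟩
    · intro P hP _ p hp
      refine ⟨fun z hz => ?_, fun z hz => ?_⟩
      · rw [hc P hP z hz p hp]
        exact hz
      · rw [hc P hP z hz p⁻¹ (inv_mem hp)]
        exact hz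
  rcases irr Z (fun h w hw => (h1 (mem_top h)).1 w hw) with h2 | h2
  · exact hZ h2
  · apply hT
    rw [eq_bot_iff]
    intro t ht
    rw [mem_bot]
    exact faith t fun m => TZ t ht m (h2 ▸ mem_top m)

/-- **some `T`-minimal `P` moves some `x ∈ Z#` and fixes some `y ∈ Z#`** -/
theorem exists_mv [Finite H] [Finite M] (faith : ∀ h : H, (∀ m : M, h • m = m) → h = 1)
    (irr : ∀ W : Subgroup M, (∀ h : H, ∀ w ∈ W, h • w ∈ W) → W = ⊥ ∨ W = ⊤)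
    (TZ : ∀ t ∈ T, ∀ z ∈ Z, t • z = z) (nZ : ∀ g ∈ normalizer (T : Set H), ∀ z ∈ Z, g • z ∈ Z)
    (par : ∀ P : Subgroup H, IsMinPar T P → (Z ⊓ cv M (P : Set H)).relIndex Z ≤ c) (Zc : c < Nat.card Z)
    (c2 : 2 ≤ c) (hT : T ≠ ⊥) :
    ∃ P : Subgroup H, IsMinPar T P ∧ ∃ x ∈ Z, ∃ y ∈ Z, x ≠ 1 ∧ y ≠ 1 ∧ (∃ p ∈ P, p • x ≠ x) ∧
      ∀ p ∈ P, p • y = y := by
  have hZ : Z ≠ ⊥ := by
    rintro rfl
    rw [card_bot] at Zc
    omega
  obtain ⟨P, hP, x, hx, p, hp, hpx⟩ := exists_mover faith irr TZ nZ hZ hT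
  obtain ⟨y, hy, hy1, hPy⟩ := exists_fixed par Zc hP
  refine ⟨P, hP, x, hx, y, hy, ?_, hy1, ⟨p, hp, hpx⟩, hPy⟩
  rintro rfl
  exact hpx (smul_one p)

end Cfsg.Agent.Omega.KL.ZR
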