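import Cfsg.Agent.Omega.KL.ZR.Str

/-!
# The END of `|Z| ≥ 8`: `ZSys 2` has no normal subgroup of odd order (helper550)

* `not_odd` : `E` normal of odd order, `ET = H` : `A` centralises `E` (otherwise `C_E(⟨A^T⟩)T` contains all `T ≤ R < H`);
* **`odd`** : `ZSys 2 T A Z`, `N` normal of odd order ⟹ `N = 1` (the field `odd` of `Red.Mn`, `SysT`).
-/

set_option autoImplicit false
set_option linter.unusedSectionVars false

namespace Cfsg.Agent.Omega.KL.ZR.Odd

open Subgroup Cfsg Cfsg.Agent.ZN Cfsg.Agent.ClassTwoFusion.Quad Cfsg.Agent.Omega.ML.MinFrame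
open Cfsg.Agent.Omega.KL.Str Cfsg.Agent.Omega.KL.ZR.Str
open Cfsg.Agent.MinSimple.MinParabolic (IsMinPar le_of_forall)
open Cfsg.Agent.MinSimple.VModule (o2_isPGroup o2_le le_o2 le_normalizer_o2)

universe u v

variable {H : Type u} [Group H] [Finite H] {M : Type v} [Group M] [MulDistribMulAction H M]
  {T A : Subgroup H} {Z : Subgroup M} {c : ℕ}

/-- a normal supplement of `T` of odd order is centralised by `A` -/
theorem not_odd (h : ZSys c T A Z) {E : Subgroup H} (hE : E.Normal) (hET : E ⊔ T = ⊤) (hodd : Odd (Nat.card E)) :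
    A ≤ centralizer (E : Set H) := by
  by_contra hEA
  have : Fact (Nat.Prime 2) := ⟨Nat.prime_two⟩
  have htriv : ∀ z : H, z ∈ E → ∀ Q : Subgroup H, IsPGroup 2 Q → z ∈ Q → z = 1 := by
    intro z hz Q hQ hzQ
    have h1 : orderOf z ∣ Nat.card E := Subgroup.orderOf_dvd_natCard E hz
    obtain ⟨k, hk⟩ := hQ ⟨z, hzQ⟩
    have h2 : z ^ 2 ^ k = 1 := congrArg Subtype.val hk
    have h3 : orderOf z ∣ 2 ^ k := orderOf_dvd_of_pow_eq_one h2
    have h4 : Nat.Coprime (Nat.card E) (2 ^ k) := by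
      apply Nat.Coprime.pow_right
      exact Nat.coprime_two_right.2 hodd
    have h5 : orderOf z = 1 := Nat.eq_one_of_dvd_coprimes h4 h1 h3
    exact orderOf_eq_one_iff.1 h5
  -- the subgroup `D` of `E` centralised by all `T`-conjugates of `A`
  let D : Subgroup H := E ⊓ centralizer {z : H | ∃ t ∈ T, ∃ a ∈ A, z = t * a * t⁻¹}
  have hDT : ∀ s ∈ T, ∀ d ∈ D, s * d * s⁻¹ ∈ D := by
    intro s hs d hd
    refine ⟨hE.conj_mem d hd.1 s, mem_centralizer_iff.2 ?_⟩
    rintro _ ⟨t, ht, a, ha, rfl⟩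
    have h1 := mem_centralizer_iff.1 hd.2 _ ⟨s⁻¹ * t, mul_mem (inv_mem hs) ht, a, ha, rfl⟩
    have h2 := congrArg (fun w => s * w * s⁻¹) h1
    simp only [mul_inv_rev, inv_inv] at h2
    calc t * a * t⁻¹ * (s * d * s⁻¹) = s * (s⁻¹ * t * a * (t⁻¹ * s) * d) * s⁻¹ := by group
      _ = s * (d * (s⁻¹ * t * a * (t⁻¹ * s))) * s⁻¹ := h2
      _ = s * d * s⁻¹ * (t * a * t⁻¹) := by group
  have hDn : T ≤ normalizer (D : Set H) := by
    intro s hs
    rw [mem_normalizer_iff]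
    intro z
    refine ⟨hDT s hs z, fun hz => ?_⟩
    have h1 := hDT s⁻¹ (inv_mem hs) _ hz
    have h2 : s⁻¹ * (s * z * s⁻¹) * s⁻¹⁻¹ = z := by group
    rwa [h2] at h1
  refine h.nmax ⟨D ⊔ T, ?_, ?_⟩
  · intro htop
    apply hEA
    intro a ha
    rw [mem_centralizer_iff]
    intro e he
    have h1 : e ∈ D ⊔ T := htop ▸ mem_top e
    have h2 : e ∈ ((D ⊔ T : Subgroup H) : Set H) := h1
    rw [coe_mul_of_right_le_normalizer_left D T hDn] at h2
    obtain ⟨d, hd, t, ht, rfl⟩ := h2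
    have h3 : t ∈ E := by
      have := E.mul_mem (E.inv_mem hd.1) he
      simpa using this
    have h4 : t = 1 := htriv t h3 T h.two ht
    rw [h4]
    simp only [mul_one]
    have h5 := mem_centralizer_iff.1 hd.2 a ⟨1, one_mem T, a, ha, by group⟩
    exact h5.symm
  · intro R hTR hR
    have h1 : R ⊓ E ⊔ T = R := dedekind hE hTR (by rw [hET]; exact le_top)
    rw [← h1]
    refine sup_le_sup_right ?_ T
    intro e he
    refine ⟨he.2, mem_centralizer_iff.2 ?_⟩
    rintro _ ⟨t, ht, a, ha, rfl⟩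
    have h2 := h.low R hTR hR ha
    have h3 : t * a * t⁻¹ ∈ o2 R := (mem_normalizer_iff.1 (le_normalizer_o2 R (hTR ht)) a).1 h2
    set b := t * a * t⁻¹ with hb
    have h4 : e * b * e⁻¹ ∈ o2 R := (mem_normalizer_iff.1 (le_normalizer_o2 R he.1) b).1 h3
    have h5 : e * b * e⁻¹ * b⁻¹ = 1 := by
      refine htriv _ ?_ (o2 R) (o2_isPGroup R) (mul_mem h4 (inv_mem h3))
      have h6 : b * e⁻¹ * b⁻¹ ∈ E := hE.conj_mem _ (inv_mem he.2) b
      have h7 : e * b * e⁻¹ * b⁻¹ = e * (b * e⁻¹ * b⁻¹) := by group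
      rw [h7]
      exact mul_mem he.2 h6
    have h6 : e * b = (e * b * e⁻¹ * b⁻¹) * (b * e) := by group
    rw [h6, h5, one_mul]

/-- **`O(H) = 1` in `ZSys 2`** -/
theorem odd (h : ZSys 2 T A Z) : ∀ N : Subgroup H, N.Normal → Odd (Nat.card N) → N = ⊥ := by
  intro N hN hodd
  have hA : A ≤ centralizer (N : Set H) := by
    by_cases hne : N ⊔ T = ⊤
    · exact not_odd h hN hne hodd
    · exact SysF.comm_of_ne h hN hne
  refine central_bot h hN fun n hn => ?_
  have h1 := SysF.comm_sub h hN hA hn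
  exact h1

end Cfsg.Agent.Omega.KL.ZR.Odd
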