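import Cfsg.Agent.Omega.KL.ZR.Gen
import Cfsg.Agent.Omega.KL.ZR.Mv
import Cfsg.Agent.Omega.KL.ZR.Odd
import Cfsg.Agent.Omega.ML.Ex.Two

/-!
# The END of `|Z| ≥ 8` (#22648 (3) (d), #22713 (6) (7), #22781 (4), split #22922) from EXT (helper699)

* `ZSys.exists_mv'` : some `T`-minimal `P` moves some `x ∈ Z#` and fixes some `y ∈ Z#`;
* **`ZSys.sysT`** : `ZSys 2 T A Z ⟹ ∃ x y, SysT H M T A x y`;
* **`ZSys.false_of (hE : Ext) : ZSys 2 T A Z → False`**;
* **`ZPre.false_of (ml : MLK) (hE : Ext) : ZPre 2 T A Z → False`**.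
-/

set_option autoImplicit false

namespace Cfsg.Agent.Omega.KL.ZR

open Subgroup Cfsg Cfsg.Agent.ZN Cfsg.Agent.ClassTwoFusion.Quad Cfsg.Agent.Omega.ML.MinFrame
open Cfsg.Agent.Omega.ML.Ex.Two (Mv SysT Ext)
open Cfsg.Agent.Omega.ML.Final (MLK)
open Cfsg.Agent.MinSimple.MinParabolic (IsMinPar)

universe u v

variable {H : Type u} [Group H] [Finite H] {M : Type v} [Group M] [MulDistribMulAction H M] {T A : Subgroup H}
  {Z : Subgroup M} {c : ℕ}

/-- **some `T`-minimal `P` moves some `x ∈ Z#` and fixes some `y ∈ Z#`** -/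
theorem ZSys.exists_mv' (h : ZSys c T A Z) : ∃ P : Subgroup H, IsMinPar T P ∧ ∃ x ∈ Z, ∃ y ∈ Z, x ≠ 1 ∧ y ≠ 1 ∧
    (∃ p ∈ P, p • x ≠ x) ∧ ∀ p ∈ P, p • y = y := by
  have hZ : Z ≠ ⊥ := by
    intro h1
    have h4 := h.Z4
    rw [h1, card_bot] at h4
    omega
  have hT : T ≠ ⊥ := by
    intro h1
    exact h.A1 (le_bot_iff.1 (h1 ▸ h.AT))
  obtain ⟨P, hP, x, hx, p, hp, hpx⟩ := exists_mover h.faith h.irr h.TZ h.nZ hZ hT
  obtain ⟨y, hy, hy1, hPy⟩ := h.fix P hP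
  refine ⟨P, hP, x, hx, y, hy, ?_, hy1, ⟨p, hp, hpx⟩, hPy⟩
  rintro rfl
  exact hpx (smul_one p)

/-- **`ZSys 2` is a `SysT`** -/
theorem ZSys.sysT (h : ZSys 2 T A Z) : ∃ x y : M, SysT H M T A x y := by
  obtain ⟨P, hP, x, hx, y, hy, hx1, hy1, hpx, hPy⟩ := h.exists_mv'
  exact ⟨x, y,
    { x1 := hx1
      y1 := hy1
      tx := fun t ht => h.TZ t ht x hx
      ty := fun t ht => h.TZ t ht y hy
      mv := ⟨P, hP.le, hPy, hpx⟩
      sq := h.sq
      faith := h.faith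
      irr := h.irr
      two := h.two
      syl := h.syl
      AT := h.AT
      el := h.el
      four := h.four
      exact := h.exact
      atom := h.atom
      low := h.low
      nmax := h.nmax
      odd := Odd.odd h
      KH := h.KH }⟩

/-- **the END of `ZSys 2` from EXT** -/
theorem ZSys.false_of [Finite M] (hE : Ext.{u, v}) (h : ZSys 2 T A Z) : False := by
  obtain ⟨x, y, hs⟩ := h.sysT
  exact hE H M T A x y hs

/-- **the END of `|Z| ≥ 8` from EXT** -/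
theorem ZPre.false_of [Finite M] (ml : MLK.{u, v}) (hE : Ext.{u, v}) (h : ZPre 2 T A Z) : False :=
  ZR.false_of ml (fun _ _ _ _ _ _ _ _ _ _ h' => h'.false_of hE) h

end Cfsg.Agent.Omega.KL.ZR
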