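import Cfsg.Agent.Omega.KL.Def

/-!
# The end of THEOREM Z-RANK / SIGMA (#22648 (3) = #22713 (6), (7) = #22781 (4)): literal input, middle, output (helper636)

* `ZTwo c T Z` : `M` of exponent 2, `T` a Sylow 2-subgroup of `C`, `T` centralises `Z ≤ M`, `N_C(T)` normalises `Z`, every
  `T`-minimal `P` has `|Z : C_Z(P)| ≤ c` (`c` arbitrary, `c = 2` is used for `Z(E) = 1` only);
* `ZPre c T A Z` : **the input**: `C` acts, not necessarily faithfully, on `M = ⟨Z^C⟩`; `A` is elementary abelian, not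
  trivial and exact on `M`; every `T`-minimal `P` fixes a GOOD `m ∈ Z` : `A ≤ O₂(C_C(m))`;
* `ZSys c T A Z` : **the middle**: `H` is faithful and irreducible on `M`, `|Z| ≥ 4`, every `T`-minimal `P` fixes some
  `m ∈ Z#`, `A` is an exact atom of order `≥ 4`, `A ≤ O₂(R)` for all `T ≤ R < H` and `T` is in at least two maximal
  subgroups;
* `ZKK c K T A Z` : **the output** : moreover `K` is normal and simple, `C_H(K) = 1`, `H = KT`;  `ZKK.inX`.
-/

set_option autoImplicit false

namespace Cfsg.Agent.Omega.KL.ZR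

open Subgroup Cfsg Cfsg.Agent.ZN Cfsg.Agent.ClassTwoFusion.Quad Cfsg.Agent.Omega.ML.MinFrame
open Cfsg.Agent.Omega.KL.Def (Atom)
open Cfsg.Agent.MinSimple.MinParabolic (IsMinPar)

universe u v

/-- the parts of the input which do not concern `A` -/
structure ZTwo {C : Type u} [Group C] {M : Type v} [Group M] [MulDistribMulAction C M] (c : ℕ) (T : Subgroup C)
    (Z : Subgroup M) : Prop where
  sq : ∀ m : M, m * m = 1
  two : IsPGroup 2 T
  syl : ¬ 2 ∣ T.index
  TZ : ∀ t ∈ T, ∀ z ∈ Z, t • z = z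
  nZ : ∀ g ∈ normalizer (T : Set C), ∀ z ∈ Z, g • z ∈ Z
  par : ∀ P : Subgroup C, IsMinPar T P → (Z ⊓ cv M (P : Set C)).relIndex Z ≤ c

/-- **the input** -/
structure ZPre {C : Type u} [Group C] {M : Type v} [Group M] [MulDistribMulAction C M] (c : ℕ) (T A : Subgroup C)
    (Z : Subgroup M) : Prop extends ZTwo c T Z where
  gen : (⨆ z : Z, orb (⊤ : Subgroup C) (z : M)) = ⊤
  fix : ∀ P : Subgroup C, IsMinPar T P → ∃ m ∈ Z, (∀ p ∈ P, p • m = m) ∧ A ≤ o2 (MulAction.stabilizer C m)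
  good : ∃ m ∈ Z, A ≤ o2 (MulAction.stabilizer C m)
  el : ∀ a ∈ A, a * a = 1
  mv : ∃ a ∈ A, ∃ m : M, a • m ≠ m
  le : (cv M (A : Set C)).index ≤ (fxr C (⊤ : Subgroup M)).relIndex A
  KC : IsKGroup C

/-- **the middle** -/
structure ZSys {H : Type u} [Group H] {M : Type v} [Group M] [MulDistribMulAction H M] (c : ℕ) (T A : Subgroup H)
    (Z : Subgroup M) : Prop extends ZTwo c T Z, Atom M A where
  faith : ∀ h : H, (∀ m : M, h • m = m) → h = 1
  irr : ∀ W : Subgroup M, (∀ h : H, ∀ w ∈ W, h • w ∈ W) → W = ⊥ ∨ W = ⊤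
  Z4 : 4 ≤ Nat.card Z
  fix : ∀ P : Subgroup H, IsMinPar T P → ∃ m ∈ Z, m ≠ 1 ∧ ∀ p ∈ P, p • m = m
  AT : A ≤ T
  four : 4 ≤ Nat.card A
  low : ∀ R : Subgroup H, T ≤ R → R ≠ ⊤ → A ≤ o2 R
  nmax : ¬ ∃ N : Subgroup H, N ≠ ⊤ ∧ ∀ R : Subgroup H, T ≤ R → R ≠ ⊤ → R ≤ N
  KH : IsKGroup H

/-- **the output** -/
structure ZKK {H : Type u} [Group H] {M : Type v} [Group M] [MulDistribMulAction H M] (c : ℕ) (K T A : Subgroup H)
    (Z : Subgroup M) : Prop extends ZSys c T A Z where
  norm : K.Normal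
  simple : IsSimpleGroup K
  cen : centralizer (K : Set H) = ⊥
  KT : K ⊔ T = ⊤

section

variable {H : Type u} [Group H] {M : Type v} [Group M] [MulDistribMulAction H M] {c : ℕ} {K T A : Subgroup H}
  {Z : Subgroup M}

/-- the form of the rows -/
theorem ZKK.inX (h : ZKK c K T A Z) : ML.Ex.InX H M K T A where
  sq := h.sq
  faith := h.faith
  irr := h.irr
  norm := h.norm
  simple := h.simple
  cen := h.cen
  gen := h.KT
  two := h.two
  syl := h.syl
  AT := h.AT
  el := h.el
  four := h.four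
  exact := h.exact
  sub := by
    intro C hC
    by_cases h1 : C = ⊥
    · subst h1
      have h2 : cv M ((⊥ : Subgroup H) : Set H) = ⊤ := by
        rw [eq_top_iff]
        intro m _ c hc
        rw [SetLike.mem_coe, mem_bot] at hc
        rw [hc, one_smul]
      rw [h2, index_top, card_bot]
    · by_cases h2 : C = A
      · rw [h2, h.exact]
      · exact (h.atom C hC h1 h2).le
  low := h.low
  nmax := h.nmax

theorem ZKK.atm (h : ZKK c K T A Z) : ML.Ex.Atm M A := h.atom

/-- a stabiliser of a `T`-fixed vector which is not `⊤` -/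
theorem ZSys.le_o2 (h : ZSys c T A Z) {m : M} (hm : m ∈ Z) (hm1 : ∃ g : H, g • m ≠ m) :
    A ≤ o2 (MulAction.stabilizer H m) := by
  refine h.low _ (fun t ht => h.TZ t ht m hm) fun h1 => ?_
  obtain ⟨g, hg⟩ := hm1
  exact hg (h1 ▸ mem_top g : g ∈ MulAction.stabilizer H m)

end

section big

variable {C : Type u} [Group C] {M : Type v} [Group M] [MulDistribMulAction C M] {c : ℕ} {T A : Subgroup C}
  {Z : Subgroup M}

/-- **the form with an index bound**: a subgroup `Y ≤ Z` without good vectors has index `> c` -/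
theorem ZPre.of_big (h : ZTwo c T Z) (c1 : 1 ≤ c) (gen : (⨆ z : Z, orb (⊤ : Subgroup C) (z : M)) = ⊤)
    (big : ∀ Y : Subgroup M, Y ≤ Z → (∀ m ∈ Y, ¬ A ≤ o2 (MulAction.stabilizer C m)) → c < Y.relIndex Z)
    (el : ∀ a ∈ A, a * a = 1) (mv : ∃ a ∈ A, ∃ m : M, a • m ≠ m)
    (le : (cv M (A : Set C)).index ≤ (fxr C (⊤ : Subgroup M)).relIndex A) (KC : IsKGroup C) : ZPre c T A Z :=
  { h with
    gen := gen
    fix := by
      intro P hP
      by_contra hc
      push Not at hc
      have h1 := big (Z ⊓ cv M (P : Set C)) inf_le_left fun m hm => hc m hm.1 hm.2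
      exact absurd (h.par P hP) (not_le_of_gt h1)
    good := by
      by_contra hc
      push Not at hc
      have h1 := big Z le_rfl hc
      rw [relIndex_self] at h1
      omega
    el := el
    mv := mv
    le := le
    KC := KC }

end big

end Cfsg.Agent.Omega.KL.ZR
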