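import Cfsg.Agent.Omega.KL.ZR.Mv
import Cfsg.Agent.Omega.KL.ZR.Def
import Cfsg.Agent.Omega.KL.Str

/-!
# The END of `|Z| ≥ 8`: the structure of `H` in `ZSys 2` (helper550, after helper969's Omega/KL/Str and helper976)

`H` has a minimal normal subgroup `E` which is not abelian, `H = ET`, `C_H(E) = 1`, and `T` is transitive on the set
`minSet E` of the simple factors of `E`.

New here: `central_bot` : `E ∩ C(⟨A^H⟩) = 1`.
-/

set_option autoImplicit false
set_option linter.unusedSectionVars false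

namespace Cfsg.Agent.Omega.KL.ZR.Str

open Subgroup Cfsg Cfsg.Agent.ZN Cfsg.Agent.ClassTwoFusion.Quad Cfsg.Agent.Omega.ML.MinFrame
open Cfsg.Agent.Omega.KL.Str Cfsg.Agent.Lib.MinNormalNonabelian
open Cfsg.Agent.MinSimple.MinParabolic (IsMinPar le_of_forall)
open Cfsg.Agent.MinSimple.VModule (o2_isPGroup o2_le le_o2 le_normalizer_o2)

universe u v

variable {H : Type u} [Group H] [Finite H] {M : Type v} [Group M] [MulDistribMulAction H M]
  {T A : Subgroup H} {Z : Subgroup M} {c : ℕ}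

namespace SysF

variable (h : ZSys c T A Z)
include h

/-- a non-trivial vector of `Z` -/
theorem exists_z : ∃ z ∈ Z, z ≠ 1 := by
  by_contra hc
  push Not at hc
  have h1 : Z = ⊥ := (eq_bot_iff_forall Z).2 hc
  have h2 := h.Z4
  rw [h1, card_bot] at h2
  omega

theorem o2_top : o2 (⊤ : Subgroup H) = ⊥ := by
  have h1 : o2 (⊤ : Subgroup H) ≤ T := by
    have h2 : T ≤ normalizer (o2 (⊤ : Subgroup H) : Set H) := le_top.trans (le_normalizer_o2 _)
    have h3 : IsPGroup 2 (o2 (⊤ : Subgroup H) ⊔ T : Subgroup H) :=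
      IsPGroup.to_sup_of_normal_left' (o2_isPGroup _) h.two h2
    have h4 := Subgroup.relIndex_mul_index (le_sup_right : T ≤ o2 (⊤ : Subgroup H) ⊔ T)
    have h5 : T.relIndex (o2 (⊤ : Subgroup H) ⊔ T) = 1 := by
      obtain ⟨n, hn⟩ := IsPGroup.iff_card.1 h3
      have h6 : T.relIndex (o2 (⊤ : Subgroup H) ⊔ T) ∣ 2 ^ n := by
        rw [← hn]
        exact relIndex_dvd_card _ _
      obtain ⟨k, -, hk⟩ := (Nat.dvd_prime_pow Nat.prime_two).1 h6
      rcases Nat.eq_zero_or_pos k with h7 | h7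
      · rw [hk, h7, pow_zero]
      · exfalso
        apply h.syl
        rw [← h4, hk]
        exact dvd_mul_of_dvd_left (dvd_pow_self 2 h7.ne') _
    exact le_sup_left.trans (relIndex_eq_one.1 h5)
  obtain ⟨z, hz, hz1⟩ := exists_z h
  refine eq_bot_of_fix h.faith h.irr ?_ hz1 fun n hn => h.TZ n (h1 hn) z hz
  rw [← normalizer_eq_top_iff, eq_top_iff]
  exact le_normalizer_o2 _

/-- a normal subgroup has no normal 2-subgroup -/
theorem bot_of_norm {N Q : Subgroup H} (hN : N.Normal) (hQN : Q ≤ N) (hQ : IsPGroup 2 Q)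
    (hn : N ≤ normalizer (Q : Set H)) : Q = ⊥ := by
  have h1 := le_o2_top hN hQN hQ hn
  rw [o2_top h] at h1
  exact le_bot_iff.1 h1

theorem comm_sub {N : Subgroup H} (hN : N.Normal) (hA : A ≤ centralizer (N : Set H)) :
    N ≤ centralizer (normalClosure (A : Set H) : Set H) := by
  have h1 : normalClosure (A : Set H) ≤ centralizer (N : Set H) := by
    have : (centralizer (N : Set H)).Normal := inferInstance
    exact normalClosure_le_normal hA
  intro n hn
  rw [mem_centralizer_iff]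
  intro k hk
  exact (mem_centralizer_iff.1 (h1 hk) n hn).symm

/-- `[N, A] = 1` if `NT < H` -/
theorem comm_of_ne {N : Subgroup H} (hN : N.Normal) (hne : N ⊔ T ≠ ⊤) : A ≤ centralizer (N : Set H) := by
  have h1 := h.low (N ⊔ T) le_sup_right hne
  have h2 : N ⊓ o2 (N ⊔ T) = ⊥ := by
    refine bot_of_norm h hN inf_le_left ((o2_isPGroup _).to_le inf_le_right) ?_
    intro n hn
    have h3 := le_normalizer_o2 (N ⊔ T) (mem_sup_left hn)
    rw [mem_normalizer_iff] at h3 ⊢
    intro z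
    constructor
    · rintro ⟨hz1, hz2⟩
      exact ⟨hN.conj_mem z hz1 n, (h3 z).1 hz2⟩
    · rintro ⟨hz1, hz2⟩
      refine ⟨?_, (h3 z).2 hz2⟩
      have := hN.conj_mem _ hz1 n⁻¹
      have h6 : n⁻¹ * (n * z * n⁻¹) * n⁻¹⁻¹ = z := by group
      rwa [h6] at this
  intro a ha
  rw [mem_centralizer_iff]
  intro n hn
  have h3 : n * a * n⁻¹ * a⁻¹ ∈ N ⊓ o2 (N ⊔ T) := by
    constructor
    · have h4 : a * n⁻¹ * a⁻¹ ∈ N := hN.conj_mem _ (inv_mem hn) a
      have h5 : n * a * n⁻¹ * a⁻¹ = n * (a * n⁻¹ * a⁻¹) := by group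
      rw [h5]
      exact N.mul_mem hn h4
    · exact (o2 (N ⊔ T)).mul_mem ((mem_normalizer_iff.1 (le_normalizer_o2 (N ⊔ T) (mem_sup_left hn)) a).1 (h1 ha))
        ((o2 (N ⊔ T)).inv_mem (h1 ha))
  rw [h2, mem_bot] at h3
  have h4 : n * a = (n * a * n⁻¹ * a⁻¹) * (a * n) := by group
  rw [h4, h3, one_mul]

/-- `H = K₀T` -/
theorem sup_closure : normalClosure (A : Set H) ⊔ T = ⊤ := by
  by_contra hne
  have h1 : A ≤ centralizer (normalClosure (A : Set H) : Set H) := comm_of_ne h inferInstance hne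
  have h2 := h.low _ le_sup_right hne
  have h3 : normalClosure (A : Set H) ⊓ o2 (normalClosure (A : Set H) ⊔ T) = ⊥ := by
    refine bot_of_norm h inferInstance inf_le_left ((o2_isPGroup _).to_le inf_le_right) ?_
    intro n hn
    have h3 := le_normalizer_o2 (normalClosure (A : Set H) ⊔ T) (mem_sup_left hn)
    rw [mem_normalizer_iff] at h3 ⊢
    intro z
    have hN : (normalClosure (A : Set H)).Normal := inferInstance
    constructor
    · rintro ⟨hz1, hz2⟩
      exact ⟨hN.conj_mem z hz1 n, (h3 z).1 hz2⟩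
    · rintro ⟨hz1, hz2⟩
      refine ⟨?_, (h3 z).2 hz2⟩
      have := hN.conj_mem _ hz1 n⁻¹
      have h6 : n⁻¹ * (n * z * n⁻¹) * n⁻¹⁻¹ = z := by group
      rwa [h6] at this
  apply h.A1
  rw [eq_bot_iff, ← h3]
  exact le_inf subset_normalClosure h2

/-- a normal subgroup of `E` centralised by `K₀ = ⟨A^H⟩` (`H = K₀T`) -/
theorem inf_normal {C P : Subgroup H} (hC : C.Normal) (hCK : C ≤ centralizer (normalClosure (A : Set H) : Set H))
    (hTP : T ≤ P) : (P ⊓ C).Normal := by
  refine normal_of_sup (sup_closure h) ?_ ?_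
  · intro k hk
    rw [mem_normalizer_iff]
    intro z
    have h6 : ∀ z ∈ C, k * z * k⁻¹ = z := fun z hz => by
      rw [mem_centralizer_iff.1 (hCK hz) k hk, mul_inv_cancel_right]
    constructor
    · rintro ⟨hz1, hz2⟩
      rw [h6 z hz2]
      exact ⟨hz1, hz2⟩
    · rintro ⟨hz1, hz2⟩
      have h7 : k * (k * z * k⁻¹) * k⁻¹ = k * z * k⁻¹ := h6 _ hz2
      have h8 : k * z * k⁻¹ = z := by
        have h9 := congrArg (fun w => k⁻¹ * w * k) h7
        simpa [mul_assoc] using h9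
      rw [h8] at hz1 hz2
      exact ⟨hz1, hz2⟩
  · intro t ht
    rw [mem_normalizer_iff]
    intro z
    constructor
    · rintro ⟨hz1, hz2⟩
      exact ⟨P.mul_mem (P.mul_mem (hTP ht) hz1) (P.inv_mem (hTP ht)), hC.conj_mem z hz2 t⟩
    · rintro ⟨hz1, hz2⟩
      have h7 : t⁻¹ * (t * z * t⁻¹) * t⁻¹⁻¹ = z := by group
      refine ⟨?_, ?_⟩
      · rw [← h7]
        exact P.mul_mem (P.mul_mem (P.inv_mem (hTP ht)) hz1) (P.inv_mem (P.inv_mem (hTP ht)))
      · rw [← h7]
        exact hC.conj_mem _ hz2 t⁻¹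

/-- a normal subgroup which is centralised by `K₀` is central -/
theorem central_of {C : Subgroup H} (hC : C.Normal) (hCK : C ≤ centralizer (normalClosure (A : Set H) : Set H)) :
    C ≤ normalizer (T : Set H) ∧ ∀ c ∈ C, ∀ g : H, g * c = c * g := by
  have hno : ∀ P : Subgroup H, IsMinPar T P → ¬ P ≤ C ⊔ T := by
    intro P hP hPC
    have h4 := dedekind hC hP.le hPC
    obtain ⟨m, -, hm1, hm2⟩ := h.fix P hP
    have h6 : P ⊓ C = ⊥ := eq_bot_of_fix h.faith h.irr (inf_normal h hC hCK hP.le) hm1 fun n hn => hm2 n hn.1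
    rw [h6, bot_sup_eq] at h4
    exact hP.ne h4
  have hN : C ⊔ T ≤ normalizer (T : Set H) :=
    le_of_forall le_sup_right inf_le_right fun P hP hPC => absurd hPC (hno P hP)
  have hCN : C ≤ normalizer (T : Set H) := le_sup_left.trans hN
  have hCT : C ⊓ T = ⊥ := by
    refine bot_of_norm h hC inf_le_left (h.two.to_le inf_le_right) ?_
    intro n hn
    have h3 := hCN hn
    rw [mem_normalizer_iff] at h3 ⊢
    intro z
    constructor
    · rintro ⟨hz1, hz2⟩
      exact ⟨hC.conj_mem z hz1 n, (h3 z).1 hz2⟩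
    · rintro ⟨hz1, hz2⟩
      refine ⟨?_, (h3 z).2 hz2⟩
      have := hC.conj_mem _ hz1 n⁻¹
      have h6 : n⁻¹ * (n * z * n⁻¹) * n⁻¹⁻¹ = z := by group
      rwa [h6] at this
  refine ⟨hCN, fun c hc g => ?_⟩
  have h1 : normalClosure (A : Set H) ⊔ T ≤ centralizer {c} := by
    refine sup_le ?_ ?_
    · intro k hk
      rw [mem_centralizer_singleton_iff]
      exact mem_centralizer_iff.1 (hCK hc) k hk
    · intro t ht
      rw [mem_centralizer_singleton_iff]
      have h3 : c * t * c⁻¹ * t⁻¹ ∈ C ⊓ T := by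
        constructor
        · have h4 : t * c⁻¹ * t⁻¹ ∈ C := hC.conj_mem _ (inv_mem hc) t
          have h5 : c * t * c⁻¹ * t⁻¹ = c * (t * c⁻¹ * t⁻¹) := by group
          rw [h5]
          exact C.mul_mem hc h4
        · exact T.mul_mem ((mem_normalizer_iff.1 (hCN hc) t).1 ht) (T.inv_mem ht)
      rw [hCT, mem_bot] at h3
      have h4 : c * t = (c * t * c⁻¹ * t⁻¹) * (t * c) := by group
      rw [h4, h3, one_mul]
  rw [sup_closure h] at h1
  exact mem_centralizer_singleton_iff.1 (h1 (mem_top g))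

end SysF

/-- **`Z(E) = 1`** : a normal subgroup which is centralised by `⟨A^H⟩` is trivial (`c = 2`) -/
theorem central_bot (h : ZSys 2 T A Z) {C : Subgroup H} (hC : C.Normal)
    (hCK : C ≤ centralizer (normalClosure (A : Set H) : Set H)) : C = ⊥ := by
  obtain ⟨hCN, hcen⟩ := SysF.central_of h hC hCK
  rw [eq_bot_iff_forall]
  intro c hc
  by_contra hc1
  have hfinZ : Finite Z := Nat.finite_of_card_ne_zero (by have := h.Z4; omega)
  -- `c` is fixed point free
  have hfpf : ∀ m : M, c • m = m → m = 1 := by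
    intro m hm
    by_contra hm1
    have h1 : (zpowers c).Normal := ⟨by
      intro n hn g
      obtain ⟨k, rfl⟩ := mem_zpowers_iff.1 hn
      have h2 : g * c ^ k * g⁻¹ = c ^ k := by
        have h3 : g * c ^ k = c ^ k * g := by
          have h4 : Commute g c := hcen c hc g
          exact h4.zpow_right k
        rw [h3, mul_inv_cancel_right]
      rw [h2]
      exact hn⟩
    have h2 : zpowers c = ⊥ := by
      refine eq_bot_of_fix h.faith h.irr h1 hm1 fun n hn => ?_
      have h3 : zpowers c ≤ MulAction.stabilizer H m := by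
        rw [zpowers_le]
        exact hm
      exact h3 hn
    exact hc1 (zpowers_eq_bot.1 h2)
  have hcZ : ∀ z ∈ Z, c • z ∈ Z := fun z hz => h.nZ c (hCN hc) z hz
  -- `z ↦ (c - 1) z` is surjective on `Z`
  have hcomm := comm_of_sq h.sq
  let f : Z → Z := fun z => ⟨c • (z : M) * (z : M)⁻¹, Z.mul_mem (hcZ z z.2) (Z.inv_mem z.2)⟩
  have hf : Function.Injective f := by
    intro z w hzw
    have h1 : c • (z : M) * (z : M)⁻¹ = c • (w : M) * (w : M)⁻¹ := congrArg Subtype.val hzw
    have h2 : c • ((z : M) * (w : M)⁻¹) = (z : M) * (w : M)⁻¹ := by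
      rw [smul_mul', smul_inv']
      calc c • (z : M) * (c • (w : M))⁻¹ = (c • (z : M) * (z : M)⁻¹) * ((z : M) * (c • (w : M))⁻¹) := by group
        _ = (c • (w : M) * (w : M)⁻¹) * ((c • (w : M))⁻¹ * (z : M)) := by rw [h1, hcomm (z : M) (c • (w : M))⁻¹]
        _ = (c • (w : M)) * ((w : M)⁻¹ * (c • (w : M))⁻¹) * (z : M) := by group
        _ = (c • (w : M)) * ((c • (w : M))⁻¹ * (w : M)⁻¹) * (z : M) := by rw [hcomm (w : M)⁻¹ (c • (w : M))⁻¹]
        _ = (w : M)⁻¹ * (z : M) := by group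
        _ = _ := hcomm _ _
    exact Subtype.ext (mul_inv_eq_one.1 (hfpf _ h2))
  have hs : Function.Surjective f := Finite.surjective_of_injective hf
  -- all minimal parabolics centralise `Z`
  have hall : ∀ P : Subgroup H, IsMinPar T P → ∀ z ∈ Z, ∀ p ∈ P, p • z = z := by
    intro P hP z hz p hp
    have h1 := h.par P hP
    set F : Subgroup M := Z ⊓ cv M (P : Set H) with hF
    have hFZ : F ≤ Z := inf_le_left
    have hcF : ∀ w ∈ F, c • w ∈ F := by
      rintro w ⟨hw1, hw2⟩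
      refine ⟨hcZ w hw1, fun q hq => ?_⟩
      have h2 : q • c • w = c • q • w := by rw [← mul_smul, hcen c hc q, mul_smul]
      rw [h2, hw2 q hq]
    have hcF' : ∀ w ∈ Z, c • w ∈ F → w ∈ F := by
      rintro w hw1 ⟨-, hw2⟩
      refine ⟨hw1, fun q hq => ?_⟩
      have h2 : q • c • w = c • q • w := by rw [← mul_smul, hcen c hc q, mul_smul]
      have h3 := hw2 q hq
      rw [h2] at h3
      exact smul_left_cancel c h3
    obtain ⟨w, hw⟩ := hs ⟨z, hz⟩
    have hw' : c • (w : M) * (w : M)⁻¹ = z := congrArg Subtype.val hw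
    have h2 : c • (w : M) * (w : M)⁻¹ ∈ F := by
      by_cases h3 : (w : M) ∈ F
      · exact F.mul_mem (hcF _ h3) (F.inv_mem h3)
      · have h4 : c • (w : M) ∉ F := fun h4 => h3 (hcF' _ w.2 h4)
        have h5 : F.relIndex Z = 2 := by
          have h6 : F.relIndex Z ≠ 0 := (F.subgroupOf Z).index_ne_zero_of_finite
          have h7 : F.relIndex Z ≠ 1 := fun h7 => h3 (relIndex_eq_one.1 h7 w.2)
          omega
        have h6 : (F.subgroupOf Z).index = 2 := h5
        have h7 := (mul_mem_iff_of_index_two h6 (a := ⟨c • (w : M), hcZ _ w.2⟩) (b := w⁻¹)).2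
          ⟨fun h8 => absurd h8 (fun h8 => h4 (mem_subgroupOf.1 h8)), fun h8 => absurd h8 (fun h8 => h3 (by
            have h9 := mem_subgroupOf.1 h8
            have h10 : ((w⁻¹ : Z) : M) = (w : M)⁻¹ := rfl
            rw [h10] at h9
            exact inv_mem_iff.1 h9))⟩
        exact mem_subgroupOf.1 h7
    rw [hw'] at h2
    exact h2.2 p hp
  have hT : T ≠ ⊥ := fun h1 => h.A1 (le_bot_iff.1 (h1 ▸ h.AT))
  have hZb : Z ≠ ⊥ := by
    obtain ⟨z, hz, hz1⟩ := SysF.exists_z h
    rintro rfl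
    exact hz1 (mem_bot.1 hz)
  obtain ⟨P, hP, z, hz, p, hp, hpz⟩ := exists_mover h.faith h.irr h.TZ h.nZ hZb hT
  exact hpz (hall P hP z hz p hp)

namespace SysF

/-- a minimal normal subgroup not centralised by `K₀` -/
theorem exists_E (h : ZSys 2 T A Z) : ∃ E : Subgroup H, E.Normal ∧ E ⊔ T = ⊤ ∧ ¬ A ≤ centralizer (E : Set H) ∧
    ∀ N : Subgroup H, N.Normal → N ≤ E → N = ⊥ ∨ N = E := by
  classical
  -- the smallest normal subgroup not centralised by `A`
  have hex : ∃ n : ℕ, ∃ E : Subgroup H, E.Normal ∧ ¬ A ≤ centralizer (E : Set H) ∧ Nat.card E = n := by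
    refine ⟨_, ⊤, inferInstance, ?_, rfl⟩
    intro h1
    apply h.A1
    have h2 : A ≤ o2 (⊤ : Subgroup H) := by
      refine le_o2 le_top (h.two.to_le h.AT) ?_
      intro g _
      rw [mem_normalizer_iff]
      intro z
      have h3 : ∀ z ∈ A, g * z * g⁻¹ = z := fun z hz => by
        rw [mem_centralizer_iff.1 (h1 hz) g (mem_top g), mul_inv_cancel_right]
      constructor
      · intro hz
        rwa [h3 z hz]
      · intro hz
        have h4 : g * (g * z * g⁻¹) * g⁻¹ = g * z * g⁻¹ := h3 _ hz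
        have h5 : g * z * g⁻¹ = z := by
          have h6 := congrArg (fun w => g⁻¹ * w * g) h4
          simpa [mul_assoc] using h6
        rwa [h5] at hz
    rw [o2_top h] at h2
    exact le_bot_iff.1 h2
  obtain ⟨E, hE, hEA, hEn⟩ := Nat.find_spec hex
  have hmin : ∀ N : Subgroup H, N.Normal → N ≤ E → N ≠ E → A ≤ centralizer (N : Set H) := by
    intro N hN hNE hne
    by_contra hc
    have h1 := Nat.find_min' hex ⟨N, hN, hc, rfl⟩
    rw [← hEn] at h1
    exact hne (eq_of_le_of_card_ge hNE h1)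
  have hET : E ⊔ T = ⊤ := by
    by_contra hne
    exact hEA (comm_of_ne h hE hne)
  have hZ : E ⊓ centralizer (normalClosure (A : Set H) : Set H) = ⊥ := by
    refine central_bot h inferInstance inf_le_right
  refine ⟨E, hE, hET, hEA, fun N hN hNE => ?_⟩
  by_cases hne : N = E
  · exact Or.inr hne
  · left
    rw [eq_bot_iff, ← hZ]
    exact le_inf hNE (comm_sub h hN (hmin N hN hNE hne))

variable (h : ZSys c T A Z)
include h

/-- a minimal normal supplement of `T` is not abelian -/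
theorem not_comm {E : Subgroup H} (hE : E.Normal) (hET : E ⊔ T = ⊤) (hEA : ¬ A ≤ centralizer (E : Set H))
    (hmin : ∀ N : Subgroup H, N.Normal → N ≤ E → N = ⊥ ∨ N = E) : ¬ ∀ a ∈ E, ∀ b ∈ E, Commute a b := by
  intro hab
  have hE1 : E ≠ ⊥ := by
    rintro rfl
    apply hEA
    intro a _
    rw [mem_centralizer_iff]
    intro n hn
    rw [coe_bot, Set.mem_singleton_iff] at hn
    rw [hn, one_mul, mul_one]
  obtain ⟨p, hp, hpE, -⟩ := abelian_structure E hE1 hmin hab
  have hp2 : p ≠ 2 := by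
    rintro rfl
    exact hE1 (bot_of_norm h hE le_rfl hpE le_normalizer)
  have : Fact p.Prime := ⟨hp⟩
  have htriv : ∀ z : H, z ∈ E → ∀ Q : Subgroup H, IsPGroup 2 Q → z ∈ Q → z = 1 := by
    intro z hz Q hQ hzQ
    have h1 : Disjoint E Q := IsPGroup.disjoint_of_ne _ _ hp2 _ _ hpE hQ
    have h2 : z ∈ E ⊓ Q := ⟨hz, hzQ⟩
    rw [disjoint_iff.1 h1, mem_bot] at h2
    exact h2
  -- the subgroup `D` of `E` centralised by all `T`-conjugates of `A`
  let D : Subgroup H := E ⊓ centralizer {z : H | ∃ t ∈ T, ∃ a ∈ A, z = t * a * t⁻¹}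
  have hDT : ∀ s ∈ T, ∀ d ∈ D, s * d * s⁻¹ ∈ D := by
    intro s hs d hd
    refine ⟨hE.conj_mem d hd.1 s, mem_centralizer_iff.2 ?_⟩
    rintro _ ⟨t, ht, a, ha, rfl⟩
    have h1 := mem_centralizer_iff.1 hd.2 _ ⟨s⁻¹ * t, mul_mem (inv_mem hs) ht, a, ha, rfl⟩
    have h2 := congrArg (fun w => s * w * s⁻¹) h1
    simp only [mul_inv_rev, inv_inv] at h2
    calc t * a * t⁻¹ * (s * d * s⁻¹) = s * (s⁻¹ * t * a * (t⁻¹ * s) * d) * s⁻¹ := by group
      _ = s * (d * (s⁻¹ * t * a * (t⁻¹ * s))) * s⁻¹ := h2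
      _ = s * d * s⁻¹ * (t * a * t⁻¹) := by group
  have hDn : T ≤ normalizer (D : Set H) := by
    intro s hs
    rw [mem_normalizer_iff]
    intro z
    refine ⟨hDT s hs z, fun hz => ?_⟩
    have h1 := hDT s⁻¹ (inv_mem hs) _ hz
    have h2 : s⁻¹ * (s * z * s⁻¹) * s⁻¹⁻¹ = z := by group
    rwa [h2] at h1
  refine h.nmax ⟨D ⊔ T, ?_, ?_⟩
  · intro htop
    apply hEA
    intro a ha
    rw [mem_centralizer_iff]
    intro e he
    have h1 : e ∈ D ⊔ T := htop ▸ mem_top e
    have h2 : e ∈ ((D ⊔ T : Subgroup H) : Set H) := h1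
    rw [coe_mul_of_right_le_normalizer_left D T hDn] at h2
    obtain ⟨d, hd, t, ht, rfl⟩ := h2
    have h3 : t ∈ E := by
      have := E.mul_mem (E.inv_mem hd.1) he
      simpa using this
    have h4 : t = 1 := htriv t h3 T h.two ht
    rw [h4]
    simp only [mul_one]
    have h5 := mem_centralizer_iff.1 hd.2 a ⟨1, one_mem T, a, ha, by group⟩
    exact h5.symm
  · intro R hTR hR
    have h1 : R ⊓ E ⊔ T = R := dedekind hE hTR (by rw [hET]; exact le_top)
    rw [← h1]
    refine sup_le_sup_right ?_ T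
    intro e he
    refine ⟨he.2, mem_centralizer_iff.2 ?_⟩
    rintro _ ⟨t, ht, a, ha, rfl⟩
    have h2 := h.low R hTR hR ha
    have h3 : t * a * t⁻¹ ∈ o2 R := (mem_normalizer_iff.1 (le_normalizer_o2 R (hTR ht)) a).1 h2
    set b := t * a * t⁻¹ with hb
    have h4 : e * b * e⁻¹ ∈ o2 R := (mem_normalizer_iff.1 (le_normalizer_o2 R he.1) b).1 h3
    have h5 : e * b * e⁻¹ * b⁻¹ = 1 := by
      refine htriv _ ?_ (o2 R) (o2_isPGroup R) (mul_mem h4 (inv_mem h3))
      have h6 : b * e⁻¹ * b⁻¹ ∈ E := hE.conj_mem _ (inv_mem he.2) b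
      have h7 : e * b * e⁻¹ * b⁻¹ = e * (b * e⁻¹ * b⁻¹) := by group
      rw [h7]
      exact mul_mem he.2 h6
    have h6 : e * b = (e * b * e⁻¹ * b⁻¹) * (b * e) := by group
    rw [h6, h5, one_mul]

theorem centralizer_eq {E : Subgroup H} (hE : E.Normal) (hET : E ⊔ T = ⊤)
    (hmin : ∀ N : Subgroup H, N.Normal → N ≤ E → N = ⊥ ∨ N = E)
    (hna : ¬ ∀ a ∈ E, ∀ b ∈ E, Commute a b) : centralizer (E : Set H) = ⊥ := by
  have h1 : E ⊓ centralizer (E : Set H) = ⊥ := by
    rcases hmin (E ⊓ centralizer (E : Set H)) inferInstance inf_le_left with h1 | h1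
    · exact h1
    · exfalso
      apply hna
      intro a ha b hb
      have h2 : b ∈ E ⊓ centralizer (E : Set H) := by rw [h1]; exact hb
      exact mem_centralizer_iff.1 h2.2 a ha
  have hCn : (centralizer (E : Set H)).Normal := inferInstance
  refine bot_of_norm h hCn le_rfl ?_ le_normalizer
  -- `C_H(E)` embeds in `H / E`, an image of `T`
  let f : centralizer (E : Set H) →* H ⧸ E := (QuotientGroup.mk' E).comp (centralizer (E : Set H)).subtype
  have hf : Function.Injective f := by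
    rw [injective_iff_map_eq_one]
    intro c hc
    have h2 : (c : H) ∈ E := (QuotientGroup.eq_one_iff (c : H)).1 hc
    have h3 : (c : H) ∈ E ⊓ centralizer (E : Set H) := ⟨h2, c.2⟩
    rw [h1, mem_bot] at h3
    exact Subtype.ext h3
  have h2 : IsPGroup 2 (H ⧸ E) := by
    have h3 : Function.Surjective ((QuotientGroup.mk' E).comp T.subtype) := by
      intro q
      obtain ⟨g, rfl⟩ := QuotientGroup.mk'_surjective E q
      have h4 : g ∈ E ⊔ T := hET ▸ mem_top g
      rw [mem_sup_of_normal_left] at h4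
      obtain ⟨e, he, t, ht, rfl⟩ := h4
      refine ⟨⟨t, ht⟩, ?_⟩
      change (t : H ⧸ E) = ((e * t : H) : H ⧸ E)
      rw [QuotientGroup.eq]
      have : t⁻¹ * (e * t) = t⁻¹ * e * t⁻¹⁻¹ := by group
      rw [this]
      exact hE.conj_mem e he t⁻¹
    exact h.two.of_surjective _ h3
  exact h2.of_injective f hf

end SysF

/-- **the structure of `H`** -/
theorem exists_structure (h : ZSys 2 T A Z) : ∃ E : Subgroup H, E.Normal ∧ E ⊔ T = ⊤ ∧
    centralizer (E : Set H) = ⊥ ∧ (∀ N : Subgroup H, N.Normal → N ≤ E → N = ⊥ ∨ N = E) ∧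
    (¬ ∀ a ∈ E, ∀ b ∈ E, Commute a b) ∧
    (minSet E).Nonempty ∧ sSupIndep (minSet E) ∧ sSup (minSet E) = E ∧ (∀ L ∈ minSet E, IsSimpleGroup L) ∧
    (∀ L ∈ minSet E, ∀ z ∈ L, (∀ t ∈ L, Commute z t) → z = 1) ∧
    (∀ S ∈ minSet E, ∀ L ∈ minSet E, ∃ t ∈ T, L = S.map (MulAut.conj t).toMonoidHom) := by
  obtain ⟨E, hE, hET, hEA, hmin⟩ := SysF.exists_E h
  have hna := SysF.not_comm h hE hET hEA hmin
  obtain ⟨h1, h2, h3, h4, h5, h6⟩ := nonabelian_structure E hmin hna
  refine ⟨E, hE, hET, SysF.centralizer_eq h hE hET hmin hna, hmin, hna, h1, h2, h3, h4, h5, ?_⟩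
  intro S hS L hL
  obtain ⟨g, rfl⟩ := h6 S hS L hL
  have h7 : g ∈ T ⊔ E := by rw [sup_comm, hET]; exact mem_top g
  rw [mem_sup_of_normal_right] at h7
  obtain ⟨t, ht, e, he, rfl⟩ := h7
  refine ⟨t, ht, ?_⟩
  have h8 : S.map (MulAut.conj e).toMonoidHom = S := by
    have h9 := hS.2.2.1 he
    ext z
    constructor
    · rintro ⟨w, hw, rfl⟩
      exact (mem_normalizer_iff.1 h9 w).1 hw
    · intro hz
      refine ⟨e⁻¹ * z * e, ?_, ?_⟩
      · have h10 := (mem_normalizer_iff.1 (inv_mem h9) z).1 hz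
        simpa using h10
      · change e * (e⁻¹ * z * e) * e⁻¹ = z
        group
  rw [map_mul]
  change S.map ((MulAut.conj t).toMonoidHom.comp (MulAut.conj e).toMonoidHom) = _
  rw [← Subgroup.map_map, h8]

end Cfsg.Agent.Omega.KL.ZR.Str
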